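import Cfsg.Agent.Omega.OM.SWZ.TiFull
import Cfsg.Agent.Omega.OM.SWQ.Max
import Cfsg.Agent.Omega.OM.SWQ.CostOne

/-!
# THEOREM SWQ inside `C_G(c)`, CASE I: `T` normalises all `Z i`; level-free

* `Pf` : a pair `(T, F)` with a family of offenders, for which `C_G(Y) ≤ M` for all `C_{Z_J}(T) < Y ≤ Z_J`;
* `Pf.phi` : `q ≥ 4` ⟹ `T` normalises all `Z i`.
-/

set_option autoImplicit false
set_option linter.unusedSectionVars false

namespace Cfsg.Agent.Omega.OM.SWZ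

open Subgroup Cfsg Cfsg.Agent.ZN.ChoiceBase Cfsg.Agent.ZN.ChoiceSit
open Cfsg.Agent.ZN (jj zj bau zc zl o2)
open Cfsg.Agent.Omega.OM.Lev.Uni (FrL Best)
open Cfsg.Agent.Omega.OM.Swap.Fam (Fm)
open Cfsg.Agent.Omega.OmThm
open Cfsg.Agent.Omega.OM.SWQ

universe u

variable {G : Type u} [Group G] [Finite G]

/-- A pair with its family of offenders. -/
structure Pf {ι : Type*} (B Q V X ZJ M T F : Subgroup G) (L W Z C A : ι → Subgroup G) (q : ℕ)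
    (𝓐 : Set (Subgroup G)) : Prop where
  fr : FrL B Q V X ZJ L W Z C A q
  BT : B ≤ T
  syl : Syl T F
  nM : ¬ F ≤ M
  min : ∀ K : Subgroup G, T ≤ K → K < F → K ≤ M
  VO : V ≤ o2 F
  fix : ZJ ⊓ centralizer (o2 F : Set G) ≤ centralizer (F : Set G)
  TM : T ≤ M
  F1 : ∀ g : G, cj g B ≤ M → g ∈ M
  Zn : ∀ i, Z i ≠ ⊥
  perm : ∀ t ∈ T, ∃ σ : ι → ι, ∀ i, cj t (W i) = W (σ i) ∧ cj t (C i) = C (σ i) ∧ cj t (Z i) = Z (σ i)
  max : ∀ Y : Subgroup G, Y ≤ ZJ → ZJ ⊓ centralizer (T : Set G) < Y → centralizer (Y : Set G) ≤ M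
  fus : ∀ i, ∀ x ∈ ZJ, ∀ g : G, g⁻¹ * x * g ∈ Z i → ∃ j, x ∈ Z j
  LW : ∀ i, ∀ l ∈ L i, ∀ j, ∀ w ∈ W j, l * w * l⁻¹ ∈ W j
  lam : IsElementaryAbelian 2 (NoFF.Basic.V V F)
  fam : ∀ Λ : Subgroup G, IsElementaryAbelian 2 Λ → Λ ≤ F → F ≤ normalizer (Λ : Set G) →
    Λ ≤ NoFF.Basic.V V F → Fm F Λ 𝓐
  nJ : ∃ E ∈ 𝓐, E ≤ T ∧ ¬ E ≤ o2 F
  loc : ∀ E ∈ 𝓐, E ≤ T → E ≤ B ∧ ((∀ a ∈ E, ∀ v ∈ V, a * v = v * a) ∨ Best X E)

namespace Pf

variable {ι : Type*} {B Q V X ZJ M T F : Subgroup G} {L W Z C A : ι → Subgroup G} {q : ℕ}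
  {𝓐 : Set (Subgroup G)} (h : Pf B Q V X ZJ M T F L W Z C A q 𝓐)
include h

theorem O_le : o2 F ≤ T := o2_le_syl h.syl

theorem exists_Z (i : ι) : ∃ z ∈ Z i, z ≠ 1 := by
  by_contra hcon
  push Not at hcon
  exact h.Zn i ((eq_bot_iff_forall _).2 hcon)

theorem Z_inj {i j : ι} {z : G} (hi : z ∈ Z i) (hj : z ∈ Z j) (h1 : z ≠ 1) : i = j := by
  by_contra hne
  exact h1 (SWQ.ModQ.Z_inf h.fr hne hi hj)

theorem Z_inj' {i j : ι} (e : Z i = Z j) : i = j := by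
  obtain ⟨z, hz, h1⟩ := h.exists_Z i
  exact h.Z_inj hz (e ▸ hz) h1

/-- the support of a conjugate -/
theorem supp {t : G} (ht : t ∈ T) {i j : ι} (e : cj t (Z i) = Z j) (x : G) :
    t * x * t⁻¹ ∈ C j ↔ x ∈ C i := by
  obtain ⟨σ, hσ⟩ := h.perm t ht
  have h1 : j = σ i := h.Z_inj' (e.symm.trans (hσ i).2.2)
  subst h1
  rw [← (hσ i).2.1, mem_cj]
  have e1 : t⁻¹ * (t * x * t⁻¹) * t = x := by group
  rw [e1]

theorem W_cj {t : G} (ht : t ∈ T) {i j : ι} (e : cj t (Z i) = Z j) : cj t (W i) = W j := by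
  obtain ⟨σ, hσ⟩ := h.perm t ht
  have h1 : j = σ i := h.Z_inj' (e.symm.trans (hσ i).2.2)
  rw [h1]
  exact (hσ i).1

/-- **CASE I.** -/
theorem phi [Finite ι] (hq : 4 ≤ q) : ∀ i, ∀ t ∈ T, cj t (Z i) = Z i := by
  classical
  by_contra hcon
  push Not at hcon
  obtain ⟨i₀, t₀, ht₀, hne₀⟩ := hcon
  have hO := h.O_le
  have hTF : T ≤ F := h.syl.1
  -- the orbit
  set r : Set ι := {j | ∃ o ∈ o2 F, cj o (Z i₀) = Z j} with hr
  have hi₀r : i₀ ∈ r := ⟨1, one_mem _, cj_one _⟩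
  have hrO : ∀ o ∈ o2 F, ∀ i j, cj o (Z i) = Z j → (i ∈ r ↔ j ∈ r) := by
    intro o ho i j e
    constructor
    · rintro ⟨o', ho', e'⟩
      exact ⟨o * o', mul_mem ho ho', SwapL.cj_mul_eq e' e⟩
    · rintro ⟨o', ho', e'⟩
      exact ⟨o⁻¹ * o', mul_mem (inv_mem ho) ho', SwapL.cj_mul_eq e' (SwapL.cj_inv_eq e)⟩
  have hJ2 : IsPGroup 2 ZJ := by
    refine h.syl.2.1.to_le (h.fr.ZJV.trans ?_)
    exact h.fr.VQ.trans (h.fr.QB.trans h.BT)
  -- an element of `Z_J` with support `r` centralised by `F`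
  obtain ⟨x, hxr, hx1, hxO⟩ : ∃ x ∈ (⨆ j ∈ r, Z j : Subgroup G), x ≠ 1 ∧ x ∈ centralizer (o2 F : Set G) := by
    refine exists_fix (isPGroup_o2 F) ?_ ?_ ?_
    · exact hJ2.to_le (iSup₂_le fun j _ => h.fr.Z_le j)
    · intro e
      have h1 : Z i₀ ≤ ⊥ := by
        rw [← e]
        exact le_iSup₂_of_le i₀ hi₀r le_rfl
      exact h.Zn i₀ (le_bot_iff.1 h1)
    · intro o ho
      rw [mem_normalizer_iff_cj]
      refine Subgroup.eq_of_le_of_card_ge ?_ (by rw [card_cj])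
      rw [cj_le_iff]
      refine iSup₂_le fun j hj => ?_
      obtain ⟨σ, hσ⟩ := h.perm o (hO ho)
      rw [← cj_le_iff, (hσ j).2.2]
      exact le_iSup₂_of_le (σ j) ((hrO o ho j _ (hσ j).2.2).1 hj) le_rfl
  have hxJ : x ∈ ZJ := (iSup₂_le fun j _ => h.fr.Z_le j : (⨆ j ∈ r, Z j : Subgroup G) ≤ ZJ) hxr
  have hxF : ∀ f ∈ F, f * x = x * f := fun f hf =>
    mem_centralizer_iff.1 (h.fix ⟨hxJ, hxO⟩) f hf
  have hxfix : ∀ f ∈ F, f * x * f⁻¹ = x := fun f hf => by rw [hxF f hf]; group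
  have hxs : ∀ i, x ∈ C i ↔ i ∉ r := by
    have h1 : ∀ i, i ∉ r → x ∈ C i := by
      intro i hi
      have h2 : (⨆ j ∈ r, Z j : Subgroup G) ≤ C i :=
        iSup₂_le fun j hj => ((h.fr.blk j).ZV).trans (h.fr.WjC i j fun e => hi (e ▸ hj))
      exact h2 hxr
    obtain ⟨j₁, hj₁⟩ : ∃ j, x ∉ C j := by
      by_contra hcon
      push Not at hcon
      exact hx1 (h.fr.C0 x (h.fr.ZJV hxJ) hcon)
    have hj₁r : j₁ ∈ r := by
      by_contra h2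
      exact hj₁ (h1 j₁ h2)
    intro i
    refine ⟨fun h2 hi => ?_, h1 i⟩
    obtain ⟨o, ho, e⟩ := hi
    obtain ⟨o', ho', e'⟩ := hj₁r
    have ho'' : o' * o⁻¹ ∈ o2 F := mul_mem ho' (inv_mem ho)
    have e2 : cj (o' * o⁻¹) (Z i) = Z j₁ := SwapL.cj_mul_eq (SwapL.cj_inv_eq e) e'
    have h3 := (h.supp (hO ho'') e2 x).2 h2
    rw [hxfix _ (hTF (hO ho''))] at h3
    exact hj₁ h3
  -- `T` stabilises `r`
  have hrT : ∀ t ∈ T, ∀ i j, cj t (Z i) = Z j → i ∈ r → j ∈ r := by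
    intro t ht i j e hi
    by_contra hj
    have h1 := (h.supp ht e x).1
    rw [hxfix t (hTF ht)] at h1
    exact (hxs i).1 (h1 ((hxs j).2 hj)) hi
  -- an element of `O₂(F)` moves `i₀`
  obtain ⟨j₀, hj₀r, hij₀⟩ : ∃ j₀ ∈ r, i₀ ≠ j₀ := by
    obtain ⟨σ, hσ⟩ := h.perm t₀ ht₀
    exact ⟨σ i₀, hrT t₀ ht₀ i₀ _ (hσ i₀).2.2 hi₀r, fun e => hne₀ (by rw [(hσ i₀).2.2, ← e])⟩
  -- every index in `r` is moved by `O₂(F)`
  have hmv : ∀ i ∈ r, ∃ o ∈ o2 F, ∃ j, j ≠ i ∧ cj o (Z i) = Z j := by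
    rintro i ⟨o, ho, e⟩
    by_cases h1 : i₀ = i
    · subst h1
      obtain ⟨o', ho', e'⟩ := hj₀r
      exact ⟨o', ho', j₀, hij₀.symm, e'⟩
    · exact ⟨o⁻¹, inv_mem ho, i₀, h1, SwapL.cj_inv_eq e⟩
  -- (TI)
  have hti : Ti B Q V X ZJ M T F L W Z C A q r :=
    { fr := h.fr
      BT := h.BT
      TF := hTF
      OT := hO
      F1 := h.F1
      Zn := h.Zn
      perm := fun t ht i => by
        obtain ⟨σ, hσ⟩ := h.perm t ht
        exact ⟨σ i, (hσ i).2.2⟩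
      permO := fun o ho i hi => by
        obtain ⟨σ, hσ⟩ := h.perm o (hO ho)
        exact ⟨σ i, (hrO o ho i _ (hσ i).2.2).1 hi, (hσ i).2.2, (hσ i).1⟩
      mv := fun i hi => by
        obtain ⟨o, ho, j, hj, e⟩ := hmv i hi
        exact ⟨o, ho, fun e' => hj (h.Z_inj' (e.symm.trans e'))⟩
      cen := by
        rw [le_centralizer_iff]
        rintro c ⟨hc1, hc2⟩
        exact h.fix ⟨hc1, centralizer_le (by exact_mod_cast hO) hc2⟩
      max := h.max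
      fus := h.fus
      LW := h.LW }
  -- the situation
  have hsup : (⨆ j : r, W j) = ⨆ j ∈ r, W j := iSup_subtype' (f := fun j (_ : j ∈ r) => W j) |>.symm
  have hUV : (⨆ j : r, W j) ≤ V := iSup_le fun j => h.fr.WV j
  have hLV : NoFF.Basic.V (⨆ j : r, W j) F ≤ NoFF.Basic.V V F :=
    NoFF.Basic.V_le fun f hf => (cj_mono f hUV).trans (NoFF.Basic.Z_le_V hf)
  have hΛ : IsElementaryAbelian 2 (NoFF.Basic.V (⨆ j : r, W j) F) := Swap.elab_mono h.lam hLV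
  have hUF : (⨆ j : r, W j) ≤ F := hUV.trans (h.VO.trans (o2_le F))
  have hTperm : ∀ t ∈ T, ∀ i : r, ∃ j : r, cj t (W i) = W j := by
    rintro t ht ⟨i, hi⟩
    obtain ⟨σ, hσ⟩ := h.perm t ht
    exact ⟨⟨σ i, hrT t ht i _ (hσ i).2.2 hi⟩, (hσ i).1⟩
  have hOne : Swap.Fam.One F T (F ⊓ M) 𝓐 (⨆ j : r, W j) (fun j : r => W j) (fun j : r => Z j) :=
    { syl := h.syl
      TF₀ := le_inf hTF h.TM
      F₀F := lt_of_le_of_ne inf_le_left fun e => h.nM (inf_eq_left.1 e)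
      max := fun K hTK hKF => le_inf hKF.le (h.min K hTK hKF)
      fam := h.fam _ hΛ (NoFF.Basic.V_le fun f hf => by
        have := cj_mono f hUF
        rwa [cj_eq_of_mem_normalizer (le_normalizer hf)] at this) OmThm.XD.X_le_normalizer_W hLV
      nJ := h.nJ
      ne := ⟨⟨i₀, hi₀r⟩⟩
      UO := hUV.trans h.VO
      TU := fun t ht => by
        rw [mem_normalizer_iff_cj]
        refine Subgroup.eq_of_le_of_card_ge ?_ (by rw [card_cj])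
        rw [cj_le_iff]
        refine iSup_le fun j => ?_
        obtain ⟨l, hl⟩ := hTperm t ht j
        rw [← cj_le_iff, hl]
        exact le_iSup (fun j : r => W j) l
      comm := Swap.elab_comm hΛ
      sq := Swap.elab_sq hΛ
      sup := rfl
      H1 := fun i f hf hfz => by
        obtain ⟨z, hz, hz1⟩ := h.exists_Z (i : ι)
        exact ⟨hf, hti.cent i.2 ((h.fr.blk i).ZV hz) hz1 hf (hfz z hz)⟩
      H2 := fun E hE hET i => by
        obtain ⟨hEB, h1 | hbest⟩ := h.loc E hE hET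
        · exact Or.inl fun a ha x hx => h1 a ha x (h.fr.WV i hx)
        · exact HThree.h2 h.fr hEB hbest i
      H3 := fun i => by
        obtain ⟨o, ho, j, hj, e⟩ := hmv i i.2
        have h1 := HThree.h3 h.fr (O := o2 F) (j := (i : ι)) (fun a ha o ho => ?_) (inv_mem ho) ?_
        · exact h1.trans (commutator_mono (le_iSup (fun j : r => W j) i) le_rfl)
        · have h2 : a ∈ F := hTF (h.BT (h.fr.AB i ha))
          exact (mem_normalizer_iff.1 (le_normalizer_o2 F h2) o).1 ho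
        · rw [inv_inv, h.W_cj (hO ho) e]
          exact h.fr.WjC i j hj.symm
      H4 := by
        rintro f ⟨hf, hfU⟩
        refine ⟨hf, hti.norm ⟨i₀, hi₀r⟩ hf ?_⟩
        rwa [← hsup] }
  have h16 : ∀ i : r, 16 ≤ Nat.card (W (i : ι)) := fun i => by
    rw [(h.fr.blk i).card, h.fr.cardZ i]
    exact Nat.mul_le_mul hq hq
  have hcost := cost_blocks (T := T) (U := ⨆ j : r, W j) (V := fun j : r => W j) rfl
    (fun x hx y hy => h.fr.Vc (hUV hx) (hUV hy))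
    (fun x hx => by rw [← pow_two]; exact SQ1.Bau.elem_sq h.fr.el x (hUV hx)) ?_ hTperm h16
  · refine hOne.false_of_count ?_ hcost
    rintro x - ⟨hx1, i, hxi⟩ f hf hfx
    exact ⟨hf, hti.cent i.2 hxi hx1 hf hfx⟩
  · rintro ⟨i, hi⟩ x hx hx'
    have h1 : (⨆ j : r, ⨆ _ : j ≠ ⟨i, hi⟩, W (j : ι)) ≤ C i := by
      refine iSup_le fun j => iSup_le fun hj => ?_
      exact h.fr.WjC i j fun e => hj (Subtype.ext e.symm)
    have h2 : x ∈ W i ⊓ C i := mem_inf.2 ⟨hx, h1 hx'⟩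
    rwa [h.fr.dir i, mem_bot] at h2

end Pf

end Cfsg.Agent.Omega.OM.SWZ
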