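import Cfsg.Agent.Omega.OM.SWQ.HThree

/-!
# THEOREM SWQ inside `C_G(c)`, `c ∈ Z_J` of full support: (TI), any `q`, level-free

`(T, F)` is a pair for which `C_G(Y) ≤ M` for all `C_{Z_J}(T) < Y ≤ Z_J`, `F` centralises `C_{Z_J}(T)`, `r` is an
`O₂(F)`-invariant set of indices all of which are moved by `O₂(F)`, `U = ⟨W j : j ∈ r⟩`.

* `Ti` : the data; `Ti.b` : `f ∈ F`, `x ∈ Z_J ∖ C(T)`, `x^f ∈ Z_J` ⟹ `f ∈ M`;
* `Ti.tv` : (TV); `Ti.ti` : `1 ≠ x ∈ W i`, `i ∈ r`, `f ∈ F`, `x^f ∈ U` ⟹ `f ∈ M`;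
* `Ti.cent`, `Ti.norm` : `C_F(x) ≤ M`, `N_F(U) ≤ M`.
-/

set_option autoImplicit false
set_option linter.unusedSectionVars false

namespace Cfsg.Agent.Omega.OM.SWZ

open Subgroup Cfsg Cfsg.Agent.ZN Cfsg.Agent.ZN.ChoiceBase
open Cfsg.Agent.Omega.OM.Lev.Uni (FrL)
open Cfsg.Agent.Omega.OM.SWQ.ModQ (root conj_ZJ)
open scoped commutatorElement

universe u

variable {G : Type u} [Group G] [Finite G]

/-- The data of (TI). -/
structure Ti {ι : Type*} (B Q V X ZJ M T F : Subgroup G) (L W Z C A : ι → Subgroup G) (q : ℕ) (r : Set ι) :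
    Prop where
  fr : FrL B Q V X ZJ L W Z C A q
  BT : B ≤ T
  TF : T ≤ F
  OT : o2 F ≤ T
  F1 : ∀ g : G, cj g B ≤ M → g ∈ M
  Zn : ∀ i, Z i ≠ ⊥
  perm : ∀ t ∈ T, ∀ i, ∃ j, cj t (Z i) = Z j
  permO : ∀ o ∈ o2 F, ∀ i ∈ r, ∃ j ∈ r, cj o (Z i) = Z j ∧ cj o (W i) = W j
  mv : ∀ i ∈ r, ∃ o ∈ o2 F, cj o (Z i) ≠ Z i
  cen : F ≤ centralizer ((ZJ ⊓ centralizer (T : Set G) : Subgroup G) : Set G)
  max : ∀ Y : Subgroup G, Y ≤ ZJ → ZJ ⊓ centralizer (T : Set G) < Y → centralizer (Y : Set G) ≤ M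
  fus : ∀ i, ∀ x ∈ ZJ, ∀ g : G, g⁻¹ * x * g ∈ Z i → ∃ j, x ∈ Z j
  LW : ∀ i, ∀ l ∈ L i, ∀ j, ∀ w ∈ W j, l * w * l⁻¹ ∈ W j

namespace Ti

variable {ι : Type*} {B Q V X ZJ M T F : Subgroup G} {L W Z C A : ι → Subgroup G} {q : ℕ} {r : Set ι}
  (h : Ti B Q V X ZJ M T F L W Z C A q r)
include h

theorem exists_Z (i : ι) : ∃ z ∈ Z i, z ≠ 1 := by
  by_contra hcon
  push Not at hcon
  exact h.Zn i ((eq_bot_iff_forall _).2 hcon)

theorem Z_inj {i j : ι} {z : G} (hi : z ∈ Z i) (hj : z ∈ Z j) (h1 : z ≠ 1) : i = j := by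
  by_contra hne
  exact h1 (SWQ.ModQ.Z_inf h.fr hne hi hj)

/-- elements `≠ 1` of `Z i`, `i ∈ r`, are moved by `T` -/
theorem mvT {i : ι} (hi : i ∈ r) {z : G} (hz : z ∈ Z i) (h1 : z ≠ 1) : ∃ t ∈ T, t * z ≠ z * t := by
  obtain ⟨o, ho, hne⟩ := h.mv i hi
  obtain ⟨j, -, e, -⟩ := h.permO o ho i hi
  refine ⟨o, h.OT ho, fun hc => hne ?_⟩
  have h2 : z ∈ Z j := by
    rw [← e]
    refine ⟨z, hz, ?_⟩
    show o * z * o⁻¹ = z
    rw [hc]; group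
  rw [e, ← h.Z_inj hz h2 h1]

/-- **(b)** -/
theorem b {f x : G} (hf : f ∈ F) (hx : x ∈ ZJ) (hxT : ∃ t ∈ T, t * x ≠ x * t) (hy : f⁻¹ * x * f ∈ ZJ) : f ∈ M := by
  obtain ⟨t, ht, hne⟩ := hxT
  have hlt : ZJ ⊓ centralizer (T : Set G) < (ZJ ⊓ centralizer (T : Set G)) ⊔ zpowers x := by
    refine lt_of_le_of_ne le_sup_left fun e => hne ?_
    have h1 : x ∈ ZJ ⊓ centralizer (T : Set G) := by
      rw [e]; exact mem_sup_right (mem_zpowers x)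
    exact mem_centralizer_iff.1 h1.2 t ht
  refine h.F1 f (le_trans ?_ (h.max _ (sup_le inf_le_left (by rwa [zpowers_le])) hlt))
  rintro _ ⟨b, hb, rfl⟩
  show f * b * f⁻¹ ∈ _
  have key : (ZJ ⊓ centralizer (T : Set G)) ⊔ zpowers x ≤ centralizer ({f * b * f⁻¹} : Set G) := by
    refine sup_le (fun c hc => ?_) ?_
    · rw [mem_centralizer_singleton_iff]
      have h1 : c * f = f * c := mem_centralizer_iff.1 (h.cen hf) c hc
      have h2 : b * c = c * b := ((h.fr.mem_ZJ c).1 hc.1).2 b hb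
      have h3 : f⁻¹ * c = c * f⁻¹ := by
        calc f⁻¹ * c = f⁻¹ * (c * f) * f⁻¹ := by group
          _ = c * f⁻¹ := by rw [h1]; group
      calc c * (f * b * f⁻¹) = (c * f) * b * f⁻¹ := by group
        _ = f * (c * b) * f⁻¹ := by rw [h1]; group
        _ = f * b * (c * f⁻¹) := by rw [← h2]; group
        _ = f * b * f⁻¹ * c := by rw [← h3]; group
    · rw [zpowers_le, mem_centralizer_singleton_iff]
      have h2 : b * (f⁻¹ * x * f) = f⁻¹ * x * f * b := ((h.fr.mem_ZJ _).1 hy).2 b hb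
      calc x * (f * b * f⁻¹) = f * (f⁻¹ * x * f * b) * f⁻¹ := by group
        _ = f * (b * (f⁻¹ * x * f)) * f⁻¹ := by rw [h2]
        _ = f * b * f⁻¹ * x := by group
  exact mem_centralizer_iff.2 fun y hy => mem_centralizer_singleton_iff.1 (key hy)

omit [Finite G] h in
theorem OF {o f : G} (ho : o ∈ o2 F) (hf : f ∈ F) : f * o * f⁻¹ ∈ o2 F :=
  (mem_normalizer_iff.1 (le_normalizer_o2 F hf) o).1 ho

omit [Finite G] h in
theorem OF' {o f : G} (ho : o ∈ o2 F) (hf : f ∈ F) : f⁻¹ * o * f ∈ o2 F := by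
  have := OF ho (inv_mem hf)
  rwa [inv_inv] at this

/-- `O₂(F)` normalises `U`. -/
theorem nU {o u : G} (ho : o ∈ o2 F) (hu : u ∈ ⨆ j ∈ r, W j) : o * u * o⁻¹ ∈ ⨆ j ∈ r, W j := by
  have h1 : (⨆ j ∈ r, W j) ≤ (⨆ j ∈ r, W j).comap (MulAut.conj o).toMonoidHom := by
    refine iSup₂_le fun j hj w hw => ?_
    change o * w * o⁻¹ ∈ ⨆ j ∈ r, W j
    obtain ⟨k, hk, -, e⟩ := h.permO o ho j hj
    refine (le_iSup₂_of_le k hk le_rfl : W k ≤ ⨆ j ∈ r, W j) ?_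
    rw [← e]
    exact ⟨w, hw, rfl⟩
  exact h1 hu

/-- **(TV)** -/
theorem tv {i : ι} (hi : i ∈ r) {v ζ : G} (hv : v ∈ W i) (hvZ : v ∉ Z i) (hζ : ζ ∈ Z i) :
    ∃ u ∈ o2 F, u * v * u⁻¹ = ζ * v := by
  obtain ⟨o, ho, hne⟩ := h.mv i hi
  obtain ⟨k, -, hkZ, hkW⟩ := h.permO o⁻¹ (inv_mem ho) i hi
  have hki : i ≠ k := by
    rintro rfl
    apply hne
    have h1 : cj o (cj o⁻¹ (Z i)) = cj o (Z i) := by rw [hkZ]
    rw [cj_cj_inv] at h1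
    exact h1.symm
  obtain ⟨a, ha, e⟩ := root h.fr hv hvZ hζ
  have hT : ∀ b ∈ B, b ∈ F := fun b hb => h.TF (h.BT hb)
  have haF : a ∈ F := hT a (h.fr.AB i ha)
  refine ⟨o * a⁻¹ * o⁻¹ * a, ?_, ?_⟩
  · have h1 := OF' (inv_mem ho) haF
    have h2 := mul_mem ho h1
    have e1 : o * (a⁻¹ * o⁻¹ * a) = o * a⁻¹ * o⁻¹ * a := by group
    rwa [e1] at h2
  · have hav : a * v * a⁻¹ ∈ W i := (h.fr.blk i).BV (h.fr.AB i ha) hv
    have h0 : o⁻¹ * (a * v * a⁻¹) * o ∈ C i := by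
      refine h.fr.WjC i k hki ?_
      rw [← hkW]
      refine ⟨a * v * a⁻¹, hav, ?_⟩
      show o⁻¹ * (a * v * a⁻¹) * o⁻¹⁻¹ = _
      rw [inv_inv]
    have h1 : a * (o⁻¹ * (a * v * a⁻¹) * o) = o⁻¹ * (a * v * a⁻¹) * o * a := h.fr.AC i a ha _ h0
    calc o * a⁻¹ * o⁻¹ * a * v * (o * a⁻¹ * o⁻¹ * a)⁻¹
        = o * (a⁻¹ * (o⁻¹ * (a * v * a⁻¹) * o * a)) * o⁻¹ := by group
      _ = a * v * a⁻¹ := by rw [← h1]; group
      _ = ζ * v := by rw [← e]; group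

omit [Finite G] in
theorem UC {j : ι} (hj : j ∉ r) : (⨆ j ∈ r, W j) ≤ C j :=
  iSup₂_le fun m hm => h.fr.WjC j m fun e => hj (e ▸ hm)

/-- an element of `U` conjugate into `Z i` lies in some `W j`, `j ∈ r` -/
theorem exists_W [Finite ι] {i : ι} {y g : G} (hy : y ∈ ⨆ j ∈ r, W j) (h1 : y ≠ 1) (hg : g⁻¹ * y * g ∈ Z i) :
    ∃ j ∈ r, y ∈ W j := by
  obtain ⟨p, hp, hpZ⟩ := conj_ZJ h.fr r hy
  have hpJ : p * y * p⁻¹ ∈ ZJ := (iSup₂_le fun i _ => h.fr.Z_le i : (⨆ i ∈ r, Z i) ≤ ZJ) hpZ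
  obtain ⟨j, hj⟩ := h.fus i _ hpJ (p * g) (by
    have e : (p * g)⁻¹ * (p * y * p⁻¹) * (p * g) = g⁻¹ * y * g := by group
    rw [e]; exact hg)
  have hn : (⨆ i ∈ r, L i) ≤ normalizer (W j : Set G) := by
    refine iSup₂_le fun i _ l hl => mem_normalizer_iff.2 fun w => ⟨h.LW i l hl j w, fun hw => ?_⟩
    have h2 := h.LW i l⁻¹ (inv_mem hl) j _ hw
    have e : l⁻¹ * (l * w * l⁻¹) * l⁻¹⁻¹ = w := by group
    rwa [e] at h2
  have hyj : y ∈ W j := (mem_normalizer_iff.1 (hn hp) y).2 ((h.fr.blk j).ZV hj)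
  refine ⟨j, ?_, hyj⟩
  by_contra hjr
  apply h1
  have h2 : y ∈ W j ⊓ C j := mem_inf.2 ⟨hyj, h.UC hjr hy⟩
  rwa [h.fr.dir j, mem_bot] at h2

/-- **(TI)** -/
theorem ti [Finite ι] {i : ι} (hi : i ∈ r) {x f : G} (hx : x ∈ W i) (hx1 : x ≠ 1) (hf : f ∈ F)
    (hxU : f⁻¹ * x * f ∈ ⨆ j ∈ r, W j) : f ∈ M := by
  -- an element of `Z i`
  obtain ⟨z, hz, hz1, hzU⟩ : ∃ z ∈ Z i, z ≠ 1 ∧ f⁻¹ * z * f ∈ ⨆ j ∈ r, W j := by
    by_cases hxZ : x ∈ Z i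
    · exact ⟨x, hxZ, hx1, hxU⟩
    obtain ⟨ζ, hζ, hζ1⟩ := h.exists_Z i
    obtain ⟨u, hu, e⟩ := h.tv hi hx hxZ hζ
    refine ⟨ζ, hζ, hζ1, ?_⟩
    have h1 := h.nU (OF' hu hf) hxU
    have h2 := mul_mem h1 (inv_mem hxU)
    have e1 : f⁻¹ * u * f * (f⁻¹ * x * f) * (f⁻¹ * u * f)⁻¹ * (f⁻¹ * x * f)⁻¹ = f⁻¹ * (u * x * u⁻¹ * x⁻¹) * f := by
      group
    rw [e1, e, mul_inv_cancel_right] at h2
    exact h2
  have hy1 : f⁻¹ * z * f ≠ 1 := by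
    intro e
    apply hz1
    have := congrArg (fun t => f * t * f⁻¹) e
    simpa [mul_assoc] using this
  obtain ⟨j, hj, hyj⟩ := h.exists_W (i := i) (g := f⁻¹) hzU hy1 (by
    have e : f⁻¹⁻¹ * (f⁻¹ * z * f) * f⁻¹ = z := by group
    rw [e]; exact hz)
  by_cases hyZ : f⁻¹ * z * f ∈ Z j
  · exact h.b hf (h.fr.Z_le i hz) (h.mvT hi hz hz1) (h.fr.Z_le j hyZ)
  · exfalso
    -- `Z j ^ f ≤ Z i`
    have key : ∀ ζ ∈ Z j, f * ζ * f⁻¹ ∈ Z i := by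
      intro ζ hζ
      by_cases hζ1 : ζ = 1
      · rw [hζ1]; simp
      obtain ⟨u, hu, e⟩ := h.tv hj hyj hyZ hζ
      have hu' := OF hu hf
      obtain ⟨k, hk⟩ := h.perm _ (h.OT hu') i
      have h1 : f * u * f⁻¹ * z * (f * u * f⁻¹)⁻¹ ∈ Z k := by
        rw [← hk]
        exact ⟨z, hz, rfl⟩
      have e1 : f * u * f⁻¹ * z * (f * u * f⁻¹)⁻¹ = f * (u * (f⁻¹ * z * f) * u⁻¹) * f⁻¹ := by group
      have e2 : f * (ζ * (f⁻¹ * z * f)) * f⁻¹ = f * ζ * f⁻¹ * z := by group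
      rw [e1, e, e2] at h1
      by_cases hki : k = i
      · rw [hki] at h1
        have := mul_mem h1 (inv_mem hz)
        rwa [mul_inv_cancel_right] at this
      · exfalso
        -- `f ζ f⁻¹ ∈ Z k Z i` is conjugate into `Z j`
        set y : G := f * ζ * f⁻¹ with hy
        have hyJ : y ∈ ZJ := by
          have := mul_mem (h.fr.Z_le k h1) (inv_mem (h.fr.Z_le i hz))
          rwa [mul_inv_cancel_right] at this
        obtain ⟨m, hm⟩ := h.fus j y hyJ f (by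
          have e3 : f⁻¹ * y * f = ζ := by rw [hy]; group
          rw [e3]; exact hζ)
        have hy1' : y ≠ 1 := by
          intro e3
          apply hζ1
          have := congrArg (fun t => f⁻¹ * t * f) e3
          simpa [hy, mul_assoc] using this
        have hyz1 : y * z ≠ 1 := by
          intro e3
          -- then `f ζ f⁻¹ = z⁻¹`, so `u` centralises ... `y z ∈ Z k` is a conjugate of `z`
          have e4 : f * u * f⁻¹ * z * (f * u * f⁻¹)⁻¹ = y * z := by rw [e1, e, e2]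
          rw [e3] at e4
          apply hz1
          have := congrArg (fun t => (f * u * f⁻¹)⁻¹ * t * (f * u * f⁻¹)) e4
          simpa [mul_assoc] using this
        by_cases hmi : m = i
        · -- `y ∈ Z i`, so `y z ∈ Z i ∩ Z k`
          rw [hmi] at hm
          exact hki (h.Z_inj h1 (mul_mem hm hz) hyz1)
        · -- the `C i`-component
          have h2 : y ∈ C i := h.fr.WjC i m (Ne.symm hmi) ((h.fr.blk m).ZV hm)
          have h3 : y * z ∈ C i := h.fr.WjC i k (Ne.symm hki) ((h.fr.blk k).ZV h1)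
          have h4 : z ∈ C i := by
            have := mul_mem (inv_mem h2) h3
            rwa [inv_mul_cancel_left] at this
          have h5 : z ∈ W i ⊓ C i := mem_inf.2 ⟨(h.fr.blk i).ZV hz, h4⟩
          rw [h.fr.dir i, mem_bot] at h5
          exact hz1 h5
    have h1 : cj f (Z j) = Z i := by
      refine Subgroup.eq_of_le_of_card_ge ?_ (by rw [card_cj, h.fr.cardZ, h.fr.cardZ])
      rintro _ ⟨ζ, hζ, rfl⟩
      exact key ζ hζ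
    apply hyZ
    rw [← h1, mem_cj] at hz
    exact hz

/-- `C_F(x) ≤ M`, `1 ≠ x ∈ W i`, `i ∈ r` -/
theorem cent [Finite ι] {i : ι} (hi : i ∈ r) {x f : G} (hx : x ∈ W i) (hx1 : x ≠ 1) (hf : f ∈ F)
    (hc : f * x = x * f) : f ∈ M := by
  refine h.ti hi hx hx1 hf ?_
  have e : f⁻¹ * x * f = x := by
    rw [mul_assoc, ← hc]; group
  rw [e]
  exact (le_iSup₂_of_le i hi le_rfl : W i ≤ ⨆ j ∈ r, W j) hx

/-- `N_F(U) ≤ M` -/
theorem norm [Finite ι] (hr : r.Nonempty) {f : G} (hf : f ∈ F)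
    (hn : f ∈ normalizer ((⨆ j ∈ r, W j : Subgroup G) : Set G)) : f ∈ M := by
  obtain ⟨i, hi⟩ := hr
  obtain ⟨z, hz, hz1⟩ := h.exists_Z i
  refine h.ti hi ((h.fr.blk i).ZV hz) hz1 hf ?_
  have h1 := (mem_normalizer_iff.1 (inv_mem hn) z).1
    ((le_iSup₂_of_le i hi le_rfl : W i ≤ ⨆ j ∈ r, W j) ((h.fr.blk i).ZV hz))
  rwa [inv_inv] at h1

end Ti

end Cfsg.Agent.Omega.OM.SWZ
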